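import Mathlib
import Groth.Agent.PtBlowLib.Stalk
import Groth.Agent.BlowUpLib.Strict
import Groth.Agent.BlowUpLib.Props
import Groth.Agent.EffCartLib.Basic
import Groth.Agent.ModifLib.Basic
import Groth.Agent.ModifLib.Join
import Groth.Agent.ModifLib.Curve
import Groth.Agent.DivDescLib.Local
import Groth.Agent.DimIneqLib.Dim
import Groth.Agent.CommAlgDim.RegularRing
import Groth.Agent.S8859
import Groth.Agent.WeilExtLib.Codim
import Groth.Prelude.Def_ResolveSeq

/-! Resolution of curves by blowing up closed points. -/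

set_option autoImplicit false
set_option linter.style.haveILetI false
set_option linter.unusedSectionVars false
set_option backward.isDefEq.respectTransparency false
set_option backward.isDefEq.respectTransparency.types false
universe u

open CategoryTheory CategoryTheory.Limits AlgebraicGeometry TopologicalSpace

namespace CurveResLib

theorem isClosed_point_of_dim_le_one {Z : Scheme.{u}} [IsIntegral Z] (hd : topologicalKrullDim Z ≤ 1) (z : Z)
    (hz : z ≠ genericPoint Z) : IsClosed ({z} : Set Z) := by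
  refine closure_subset_iff_isClosed.1 fun w hw => ?_
  by_contra hne
  have hzw : z ⤳ w := specializes_iff_mem_closure.2 hw
  have h := ((DimIneqLib.chainTo_zero (genericPoint Z)).step (genericPoint_specializes z) (Ne.symm hz)).step hzw
    (fun h => hne h.symm)
  exact absurd (h.le_dim.trans hd) (by norm_num)

/-- A nonzero ideal on a regular curve is invertible. -/
theorem isEffCartier_of_regular {W : Scheme.{u}} [IsIntegral W] [IsLocallyNoetherian W]
    (hreg : ∀ w : W, IsRegularLocalRing (W.presheaf.stalk w)) (hd : topologicalKrullDim W ≤ 1)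
    (D : W.IdealSheafData) (hD : genericPoint W ∉ (D.support : Set W)) : BlowUp.IsEffCartierIdeal D := by
  refine EffCartLib.isEffCartier_of_stalk D fun w hw U hwU => ?_
  haveI := hreg w
  haveI : IsDomain (W.presheaf.stalk w) := CommAlgDim.isDomain_of_isRegularLocalRing _
  have hP : IsPrincipalIdealRing (W.presheaf.stalk w) := by
    by_cases hf : IsField (W.presheaf.stalk w)
    · letI := hf.toField
      infer_instance
    · have h1 : ringKrullDim (W.presheaf.stalk w) ≤ 1 := (DimIneqLib.stalk_dim_le_dim w).trans hd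
      haveI : IsDiscreteValuationRing (W.presheaf.stalk w) :=
        WeilExtLib.isDiscreteValuationRing_of_regular _ h1 hf
      infer_instance
  obtain ⟨g, hg⟩ := (hP.principal ((D.ideal U).map (W.presheaf.germ U w hwU).hom)).principal
  refine ⟨g, mem_nonZeroDivisors_iff_ne_zero.2 fun h0 => ?_, hg⟩
  subst h0
  refine hD ?_
  rw [Ideal.submodule_span_eq, Ideal.span_singleton_eq_bot.2 rfl] at hg
  have hinj : Function.Injective (W.presheaf.germ U w hwU).hom := germ_injective_of_isIntegral W w hwU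
  have hbot : D.ideal U = ⊥ := by
    rw [eq_bot_iff]
    intro a ha
    refine Ideal.mem_bot.2 ?_
    apply hinj
    rw [map_zero]
    exact Ideal.mem_bot.1 (hg ▸ Ideal.mem_map_of_mem (W.presheaf.germ U w hwU).hom ha)
  have hη : genericPoint W ∈ (U : W.Opens) :=
    ((genericPoint_spec W).mem_open_set_iff U.1.2).2 ⟨w, trivial, hwU⟩
  refine ((Scheme.IdealSheafData.coe_support_inter D U).symm ▸ ⟨?_, hη⟩ :
    genericPoint W ∈ (D.support : Set W) ∩ (U.1 : Set W)).1
  rw [hbot]
  simp

/-- The inverse image of a closed point by a closed immersion. -/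
theorem comap_point {Z X : Scheme.{u}} (c : Z ⟶ X) [IsClosedImmersion c] (p : Z) (hp : IsClosed ({p} : Set Z))
    (hx : IsClosed ({c p} : Set X)) :
    (Scheme.IdealSheafData.vanishingIdeal ⟨{c p}, hx⟩).comap c = Scheme.IdealSheafData.vanishingIdeal ⟨{p}, hp⟩ := by
  refine DivDescLib.eq_of_stalk fun z => ?_
  rw [DivDescLib.stalkIdeal_comap]
  by_cases hz : z = p
  · subst hz
    rw [PtBlowLib.stalkIdeal_vanishing_point, PtBlowLib.stalkIdeal_vanishing_point]
    refine le_antisymm (Ideal.map_le_iff_le_comap.2 ?_) fun t ht => ?_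
    · exact (IsLocalRing.maximalIdeal_comap (c.stalkMap z).hom).ge
    · obtain ⟨s, rfl⟩ := c.stalkMap_surjective z t
      refine Ideal.mem_map_of_mem _ ?_
      exact fun hu => ht (hu.map (c.stalkMap z).hom)
  · have h1 : IntMult.stalkIdeal (Scheme.IdealSheafData.vanishingIdeal (⟨{p}, hp⟩ : Closeds Z)) z = ⊤ :=
      of_not_not fun h => hz (by
        have := (SDivLib.mem_support_iff_stalk _ z).2 h
        rwa [← SetLike.mem_coe, Scheme.IdealSheafData.coe_support_vanishingIdeal] at this)
    have h2 : IntMult.stalkIdeal (Scheme.IdealSheafData.vanishingIdeal (⟨{c p}, hx⟩ : Closeds X)) (c z) = ⊤ :=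
      of_not_not fun h => hz (c.isClosedEmbedding.injective (by
        have := (SDivLib.mem_support_iff_stalk _ (c z)).2 h
        rwa [← SetLike.mem_coe, Scheme.IdealSheafData.coe_support_vanishingIdeal] at this))
    rw [h1, h2, Ideal.map_top]

/-- A finite birational model dominated by the regular model. -/
structure St {Y W : Scheme.{u}} (ν : W ⟶ Y) (V : Y.Opens) {Z : Scheme.{u}} (π : Z ⟶ Y) where
  lift : W ⟶ Z
  fac : lift ≫ π = ν
  integral : IsIntegral Z
  finite : IsFinite π
  iso : IsIso (π ∣_ V)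

variable {Y W : Scheme.{u}} [IsIntegral Y] [IsNoetherian Y] [IsIntegral W] (ν : W ⟶ Y) [IsFinite ν]
  (V : Y.Opens) [IsIso (ν ∣_ V)]

theorem St.noetherian {Z : Scheme.{u}} {π : Z ⟶ Y} (s : St ν V π) : IsNoetherian Z := by
  haveI := s.finite
  exact {
    toIsLocallyNoetherian := LocallyOfFiniteType.isLocallyNoetherian π
    toCompactSpace := QuasiCompact.compactSpace_of_compactSpace π }

theorem St.surjective {Z : Scheme.{u}} {π : Z ⟶ Y} (s : St ν V π) (hV : (V : Set Y).Nonempty) :
    Surjective s.lift ∧ IsFinite s.lift := by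
  haveI := s.finite; haveI := s.integral; haveI := s.iso
  haveI : IsFinite (s.lift ≫ π) := by rw [s.fac]; infer_instance
  haveI : IsFinite s.lift := IsFinite.of_comp s.lift π
  refine ⟨⟨fun z => ?_⟩, inferInstance⟩
  refine (genericPoint_specializes z).mem_closed s.lift.isClosedMap.isClosed_range ⟨genericPoint W, ?_⟩
  have h1 : ν (genericPoint W) = genericPoint Y := ModifLib.map_genericPoint ν hV
  have h2 : π (genericPoint Z) = genericPoint Y := ModifLib.map_genericPoint π hV
  have h3 : π (s.lift (genericPoint W)) = genericPoint Y := by rw [← Scheme.Hom.comp_apply, s.fac, h1]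
  have hη : genericPoint Y ∈ V := ((genericPoint_spec Y).mem_open_set_iff V.2).2 (by simpa using hV)
  have h4 := (π ∣_ V).isOpenEmbedding.injective
    (a₁ := ⟨s.lift (genericPoint W), show π _ ∈ V from h3 ▸ hη⟩) (a₂ := ⟨genericPoint Z, show π _ ∈ V from h2 ▸ hη⟩)
    (Subtype.ext ((morphismRestrict_base_coe π V _).trans ((h3.trans h2.symm).trans (morphismRestrict_base_coe π V ⟨genericPoint Z, show π _ ∈ V from h2 ▸ hη⟩).symm)))
  exact congrArg Subtype.val h4

theorem St.dim_le {Z : Scheme.{u}} {π : Z ⟶ Y} (s : St ν V π) (hV : (V : Set Y).Nonempty)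
    (hd : topologicalKrullDim Y ≤ 1) : topologicalKrullDim Z ≤ 1 := by
  haveI := s.finite; haveI := s.integral; haveI := s.iso
  exact ModifLib.dim_source_le π hV 1 fun y => (DimIneqLib.stalk_dim_le_dim y).trans hd

/-- Nothing to do over the isomorphism locus. -/
theorem St.regular_of_mem {Z : Scheme.{u}} {π : Z ⟶ Y} (s : St ν V π)
    (hreg : ∀ w : W, IsRegularLocalRing (W.presheaf.stalk w)) (z : Z) (hz : π z ∈ V) :
    IsRegularLocalRing (Z.presheaf.stalk z) := by
  haveI := s.iso
  haveI : IsIso ((s.lift ≫ π) ∣_ V) := by rw [s.fac]; infer_instance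
  haveI : IsIso (s.lift ∣_ π ⁻¹ᵁ V) := by
    have : IsIso ((s.lift ∣_ π ⁻¹ᵁ V) ≫ (π ∣_ V)) := by rw [← morphismRestrict_comp]; infer_instance
    exact IsIso.of_isIso_comp_right _ (π ∣_ V)
  obtain ⟨w, hw⟩ := (s.lift ∣_ π ⁻¹ᵁ V).homeomorph.surjective ⟨z, hz⟩
  have hw' : s.lift w.1 = z := (morphismRestrict_base_coe s.lift _ w).symm.trans (congrArg Subtype.val hw)
  subst hw'
  haveI : IsIso (s.lift.stalkMap w.1) :=
    ((MorphismProperty.isomorphisms CommRingCat.{u}).arrow_mk_iso_iff (morphismRestrictStalkMap s.lift (π ⁻¹ᵁ V) w)).1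
      (inferInstanceAs (IsIso _))
  haveI := hreg w.1
  exact IsRegularLocalRing.of_ringEquiv (asIso (s.lift.stalkMap w.1)).commRingCatIsoToRingEquiv.symm

/-- One blowing up at a singular point. -/
theorem St.step {Z : Scheme.{u}} {π : Z ⟶ Y} (s : St ν V π) (hV : (V : Set Y).Nonempty)
    (hd : topologicalKrullDim Y ≤ 1) (hreg : ∀ w : W, IsRegularLocalRing (W.presheaf.stalk w))
    (p : Z) (hns : ¬ IsRegularLocalRing (Z.presheaf.stalk p)) :
    ∃ (hp : IsClosed ({p} : Set Z)) (Z₁ : Scheme.{u}) (b : Z₁ ⟶ Z)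
      (_ : BlowUp.IsBlowUp b (Scheme.IdealSheafData.vanishingIdeal ⟨{p}, hp⟩)) (s₁ : St ν V (b ≫ π)),
      s₁.lift ≫ b = s.lift ∧ IsFinite b ∧ ¬ IsIso b := by
  haveI := s.finite; haveI := s.integral; haveI := s.iso
  haveI := s.noetherian
  have hdZ := s.dim_le ν V hV hd
  have hpV : π p ∉ V := fun h => hns (s.regular_of_mem ν V hreg p h)
  have hgen : π (genericPoint Z) ∈ V := ModifLib.genericPoint_mem π hV
  have hpη : p ≠ genericPoint Z := fun h => hpV (h ▸ hgen)
  have hp := isClosed_point_of_dim_le_one hdZ p hpη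
  let K : Z.IdealSheafData := Scheme.IdealSheafData.vanishingIdeal ⟨{p}, hp⟩
  have hKs : (K.support : Set Z) = {p} := Scheme.IdealSheafData.coe_support_vanishingIdeal _
  have hK0 : K ≠ ⊥ := fun h => hpη (by
    have h1 : genericPoint Z ∈ (K.support : Set Z) := by rw [h, Scheme.IdealSheafData.support_bot]; trivial
    exact (Set.mem_singleton_iff.1 (hKs ▸ h1)).symm)
  obtain ⟨Z₁, b, hb⟩ := Groth.Agent.S8859.result Z K
  obtain ⟨hi₁, -, -⟩ := BlowUpLib.isIntegral_of_isBlowUp hb hK0
  haveI := hi₁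
  obtain ⟨hsurj, hlf⟩ := s.surjective ν V hV
  haveI : IsLocallyNoetherian W := LocallyOfFiniteType.isLocallyNoetherian ν
  have hdW : topologicalKrullDim W ≤ 1 :=
    ModifLib.dim_source_le ν hV 1 fun y => (DimIneqLib.stalk_dim_le_dim y).trans hd
  have hKW : BlowUp.IsEffCartierIdeal (K.comap s.lift) := isEffCartier_of_regular hreg hdW _ fun h => by
    rw [Scheme.IdealSheafData.support_comap] at h
    have h' : s.lift (genericPoint W) = p := Set.mem_singleton_iff.1 (hKs ▸ h)
    refine hpV ?_
    rw [← h', ← Scheme.Hom.comp_apply, s.fac]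
    exact ModifLib.genericPoint_mem ν hV
  obtain ⟨l, hl, -⟩ := hb.2 W s.lift hKW
  haveI : IsProper b := BlowUpLib.isProper_of_isBlowUp hb fun U => by
    haveI := IsLocallyNoetherian.component_noetherian U
    exact IsNoetherian.noetherian _
  haveI := EffCartLib.isIso_off_center K b hb K.support.compl le_rfl
  have hle : π ⁻¹ᵁ V ≤ K.support.compl := fun z hz hz' => hpV ((Set.mem_singleton_iff.1 (hKs ▸ hz') : z = p) ▸ hz)
  haveI : IsIso (b ∣_ π ⁻¹ᵁ V) := ModifLib.isIso_restrict_of_le b hle
  have hiso : IsIso ((b ≫ π) ∣_ V) := by rw [morphismRestrict_comp]; infer_instance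
  have hVne : ((π ⁻¹ᵁ V : Z.Opens) : Set Z).Nonempty := ⟨_, hgen⟩
  haveI : IsFinite (b ∣_ π ⁻¹ᵁ V) := inferInstance
  haveI : IsDominant b := by
    refine ⟨?_⟩
    rw [DenseRange, dense_iff_closure_eq]
    refine Set.eq_univ_of_univ_subset ?_
    rw [← (genericPoint_spec Z).def]
    exact closure_mono (Set.singleton_subset_iff.2 ⟨_, ModifLib.map_genericPoint b hVne⟩)
  haveI : IsFinite b := ModifLib.isFinite_of_alteration b hdZ (π ⁻¹ᵁ V) hVne
  refine ⟨hp, Z₁, b, hb, ⟨l, by rw [← Category.assoc, hl, s.fac], hi₁, inferInstance, hiso⟩, hl, inferInstance, ?_⟩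
  intro hbiso
  refine hns ?_
  obtain ⟨U, hpU, t, ht, hUt⟩ : ∃ (U : Z.affineOpens) (_ : p ∈ (U : Z.Opens)) (t : Γ(Z, U.1)),
      t ∈ nonZeroDivisors Γ(Z, U.1) ∧ K.ideal U = Ideal.span {t} := by
    have h := BlowUpLib.isEffCartier_comap_of_flat (inv b) hb.1
    rw [← Scheme.IdealSheafData.comap_comp, IsIso.inv_hom_id, Scheme.IdealSheafData.comap_id] at h
    obtain ⟨U, hU, t, h1, h2⟩ := h p
    exact ⟨U, hU, t, h1, h2⟩
  letI := Z.presheaf.algebra_section_stalk (⟨p, hpU⟩ : U.1)
  have hm : IsLocalRing.maximalIdeal (Z.presheaf.stalk p) =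
      Ideal.span {algebraMap Γ(Z, U.1) (Z.presheaf.stalk p) t} := by
    rw [← PtBlowLib.stalkIdeal_vanishing_point p hp, SDivLib.stalkIdeal_eq K U hpU, hUt, Ideal.map_span,
      Set.image_singleton]
    rfl
  haveI : IsDomain (Z.presheaf.stalk p) := inferInstance
  haveI : IsPrincipalIdealRing (Z.presheaf.stalk p) := by
    by_cases hf : IsField (Z.presheaf.stalk p)
    · letI := hf.toField
      infer_instance
    · haveI : IsDiscreteValuationRing (Z.presheaf.stalk p) :=
        ((IsDiscreteValuationRing.TFAE (Z.presheaf.stalk p) hf).out 4 0 rfl rfl).1 (hm ▸ inferInstance : (IsLocalRing.maximalIdeal (Z.presheaf.stalk p)).IsPrincipal)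
      infer_instance
  infer_instance

end CurveResLib
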