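import Mathlib
import Groth.Agent.CurveResLib.Main

/-! Termination of the blowing ups of a curve. -/

set_option autoImplicit false
set_option linter.style.haveILetI false
set_option linter.unusedSectionVars false
set_option backward.isDefEq.respectTransparency false
set_option backward.isDefEq.respectTransparency.types false
universe u

open CategoryTheory CategoryTheory.Limits AlgebraicGeometry TopologicalSpace

namespace CurveResLib

variable {Y W : Scheme.{u}} [IsIntegral Y] [IsNoetherian Y] [IsIntegral W] (ν : W ⟶ Y) [IsFinite ν]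
  (V : Y.Opens) [IsIso (ν ∣_ V)]

/-- The sections of the regular model as a module over the base. -/
@[reducible] def Sub (U : Y.Opens) : Type u :=
  letI := (ν.app U).hom.toAlgebra
  Submodule Γ(Y, U) Γ(W, ν ⁻¹ᵁ U)

theorem wf_sub (U : Y.affineOpens) : WellFoundedGT (Sub ν U.1) := by
  letI := (ν.app U.1).hom.toAlgebra
  haveI : Module.Finite Γ(Y, U.1) Γ(W, ν ⁻¹ᵁ U.1) := IsFinite.finite_app (f := ν) _ U.2
  haveI := IsLocallyNoetherian.component_noetherian U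
  exact inferInstanceAs (WellFoundedGT (Submodule Γ(Y, U.1) Γ(W, ν ⁻¹ᵁ U.1)))

theorem le_of_fac {Z : Scheme.{u}} {π : Z ⟶ Y} (s : St ν V π) (U : Y.Opens) :
    ν ⁻¹ᵁ U ≤ s.lift ⁻¹ᵁ π ⁻¹ᵁ U := by
  rw [← Scheme.Hom.comp_preimage, s.fac]

/-- The functions coming from a model. -/
def meas {Z : Scheme.{u}} {π : Z ⟶ Y} (s : St ν V π) (U : Y.Opens) : Sub ν U :=
  letI := (ν.app U).hom.toAlgebra
  { carrier := Set.range (s.lift.appLE (π ⁻¹ᵁ U) (ν ⁻¹ᵁ U) (le_of_fac ν V s U)).hom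
    add_mem' := by rintro _ _ ⟨a, rfl⟩ ⟨b, rfl⟩; exact ⟨a + b, map_add _ _ _⟩
    zero_mem' := ⟨0, map_zero _⟩
    smul_mem' := by
      rintro r _ ⟨a, rfl⟩
      refine ⟨(π.app U).hom r * a, ?_⟩
      rw [map_mul, Algebra.smul_def]
      refine congrArg (· * _) ?_
      have h : π.app U ≫ s.lift.appLE (π ⁻¹ᵁ U) (ν ⁻¹ᵁ U) (le_of_fac ν V s U) = ν.app U := by
        simp only [Scheme.Hom.app_eq_appLE, Scheme.Hom.appLE_comp_appLE, s.fac]
      exact congrArg (fun φ => φ.hom r) h }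

theorem appLE_injective {Z : Scheme.{u}} {π : Z ⟶ Y} (s : St ν V π) (hV : (V : Set Y).Nonempty) (U : Y.Opens) :
    Function.Injective (s.lift.appLE (π ⁻¹ᵁ U) (ν ⁻¹ᵁ U) (le_of_fac ν V s U)).hom := by
  haveI := s.integral
  obtain ⟨hs, hf⟩ := s.surjective ν V hV
  haveI := hs
  haveI : IsDominant s.lift := inferInstance
  haveI := IsSchemeTheoreticallyDominant.of_isDominant s.lift
  have hinj := s.lift.app_injective (π ⁻¹ᵁ U)
  rw [Scheme.Hom.app_eq_appLE] at hinj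
  have e : ν ⁻¹ᵁ U = s.lift ⁻¹ᵁ π ⁻¹ᵁ U := by rw [← Scheme.Hom.comp_preimage, s.fac]
  have key : ∀ (T : W.Opens) (hT : T = s.lift ⁻¹ᵁ π ⁻¹ᵁ U) (h : T ≤ s.lift ⁻¹ᵁ π ⁻¹ᵁ U),
      Function.Injective (s.lift.appLE (π ⁻¹ᵁ U) T h).hom := by
    rintro T rfl h
    exact hinj
  exact key _ e _

/-- A blowing up which is not an isomorphism strictly enlarges the functions somewhere. -/
theorem meas_lt {Z Z₁ : Scheme.{u}} {π : Z ⟶ Y} (s : St ν V π) (b : Z₁ ⟶ Z) (s₁ : St ν V (b ≫ π))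
    (hV : (V : Set Y).Nonempty) (hl : s₁.lift ≫ b = s.lift) [IsFinite b] (hb : ¬ IsIso b) {ι : Type u}
    (𝒰 : ι → Y.affineOpens) (h𝒰 : ⨆ i, (𝒰 i).1 = ⊤) :
    (fun i => meas ν V s (𝒰 i).1) < (fun i => meas ν V s₁ (𝒰 i).1) := by
  haveI := s.finite
  have hfac : ∀ U : Y.Opens,
      b.appLE (π ⁻¹ᵁ U) ((b ≫ π) ⁻¹ᵁ U) (le_of_eq (Scheme.Hom.comp_preimage b π U)) ≫
        s₁.lift.appLE ((b ≫ π) ⁻¹ᵁ U) (ν ⁻¹ᵁ U) (le_of_fac ν V s₁ U) =
      s.lift.appLE (π ⁻¹ᵁ U) (ν ⁻¹ᵁ U) (le_of_fac ν V s U) := fun U => by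
    simp only [Scheme.Hom.appLE_comp_appLE, hl]
  have hle : ∀ U, meas ν V s U ≤ meas ν V s₁ U := by
    rintro U _ ⟨a, rfl⟩
    exact ⟨_, congrArg (fun φ => φ.hom a) (hfac U)⟩
  refine lt_of_le_of_ne (fun i => hle _) fun heq => hb ?_
  have hU : ∀ i, IsIso (b ∣_ π ⁻¹ᵁ (𝒰 i).1) := fun i => by
    have hA : IsAffineOpen (π ⁻¹ᵁ (𝒰 i).1) := (𝒰 i).2.preimage π
    rw [isIso_morphismRestrict_iff_isIso_app b hA]
    refine (ConcreteCategory.isIso_iff_bijective _).2 ⟨fun a a' haa => ?_, fun x => ?_⟩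
    · refine appLE_injective ν V s hV (𝒰 i).1 ?_
      rw [← congrArg (fun φ => φ.hom a) (hfac _), ← congrArg (fun φ => φ.hom a') (hfac _)]
      rw [Scheme.Hom.app_eq_appLE] at haa
      exact congrArg (s₁.lift.appLE ((b ≫ π) ⁻¹ᵁ (𝒰 i).1) (ν ⁻¹ᵁ (𝒰 i).1) (le_of_fac ν V s₁ _)).hom haa
    · obtain ⟨a, ha⟩ := (congrFun heq i).ge
        (show (s₁.lift.appLE ((b ≫ π) ⁻¹ᵁ (𝒰 i).1) (ν ⁻¹ᵁ (𝒰 i).1) (le_of_fac ν V s₁ _)).hom x ∈ meas ν V s₁ (𝒰 i).1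
          from ⟨x, rfl⟩)
      refine ⟨a, appLE_injective ν V s₁ hV (𝒰 i).1 ?_⟩
      rw [← ha, ← congrArg (fun φ => φ.hom a) (hfac _), Scheme.Hom.app_eq_appLE]
      rfl
  have htop : ⨆ i, π ⁻¹ᵁ (𝒰 i).1 = ⊤ := by rw [← Scheme.Hom.preimage_iSup, h𝒰, Scheme.Hom.preimage_top]
  exact (IsZariskiLocalAtTarget.iff_of_iSup_eq_top (P := MorphismProperty.isomorphisms Scheme.{u}) _ htop).2 hU

include ν in
/-- **Blowing up singular points resolves a curve with a finite regular model**, carrying along any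
extra structure `P` stable under those blowing ups. -/
theorem induct (hV : (V : Set Y).Nonempty) (hd : topologicalKrullDim Y ≤ 1)
    (hreg : ∀ w : W, IsRegularLocalRing (W.presheaf.stalk w))
    (P : ∀ {Z : Scheme.{u}}, (Z ⟶ Y) → Prop) (h0 : P (𝟙 Y))
    (hstep : ∀ {Z Z₁ : Scheme.{u}} (π : Z ⟶ Y) (p : Z) (hp : IsClosed ({p} : Set Z)) (b : Z₁ ⟶ Z),
      BlowUp.IsBlowUp b (Scheme.IdealSheafData.vanishingIdeal ⟨{p}, hp⟩) → IsFinite π → P π → P (b ≫ π)) :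
    ∃ (Z : Scheme.{u}) (π : Z ⟶ Y), IsIntegral Z ∧ IsFinite π ∧ IsIso (π ∣_ V) ∧ P π ∧
      ∀ z : Z, IsRegularLocalRing (Z.presheaf.stalk z) := by
  classical
  obtain ⟨S, hS⟩ := (isCompact_univ : IsCompact (Set.univ : Set Y)).elim_finite_subcover
    (fun U : Y.affineOpens => (U.1 : Set Y)) (fun U => U.1.2)
    (fun y _ => Set.mem_iUnion.2 (by
      obtain ⟨U, hU, hy, -⟩ := exists_isAffineOpen_mem_and_subset (x := y) (U := ⊤) trivial
      exact ⟨⟨U, hU⟩, hy⟩))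
  let 𝒰 : {U // U ∈ S} → Y.affineOpens := fun i => i.1
  have h𝒰 : ⨆ i, (𝒰 i).1 = ⊤ := top_le_iff.1 fun y _ => by
    obtain ⟨U, hU, hy⟩ := Set.mem_iUnion₂.1 (hS (Set.mem_univ y))
    exact Opens.mem_iSup.2 ⟨⟨U, hU⟩, hy⟩
  haveI := fun i => wf_sub ν (𝒰 i)
  haveI hwf : WellFoundedGT (∀ i, Sub ν (𝒰 i).1) :=
    ⟨(Pi.wellFoundedLT (α := fun i => (Sub ν (𝒰 i).1)ᵒᵈ)).wf⟩
  suffices h : ∀ (m : ∀ i, Sub ν (𝒰 i).1) (Z : Scheme.{u}) (π : Z ⟶ Y) (s : St ν V π),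
      (fun i => meas ν V s (𝒰 i).1) = m → P π → ∃ (Z : Scheme.{u}) (π : Z ⟶ Y), IsIntegral Z ∧ IsFinite π ∧
        IsIso (π ∣_ V) ∧ P π ∧ ∀ z : Z, IsRegularLocalRing (Z.presheaf.stalk z) from
    h _ Y (𝟙 Y) ⟨ν, Category.comp_id ν, inferInstance, inferInstance, inferInstance⟩ rfl h0
  intro m
  induction m using WellFoundedGT.induction with
  | _ m ih =>
    intro Z π s hm hP
    by_cases hr : ∀ z : Z, IsRegularLocalRing (Z.presheaf.stalk z)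
    · exact ⟨Z, π, s.integral, s.finite, s.iso, hP, hr⟩
    push Not at hr
    obtain ⟨p, hns⟩ := hr
    obtain ⟨hp, Z₁, b, hb, s₁, hl, hbf, hbi⟩ := s.step ν V hV hd hreg p hns
    haveI := hbf
    exact ih _ (hm ▸ meas_lt ν V s b s₁ hV hl hbi 𝒰 h𝒰) Z₁ _ s₁ rfl (hstep π p hp b hb s.finite hP)

end CurveResLib
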