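import Mathlib
import Groth.Agent.CurveResLib.Induct
import Groth.Agent.PtBlowLib.Step
import Groth.Agent.PtBlowLib.Divisorial

/-! Strict transforms of curves under a point blow-up. -/

set_option autoImplicit false
set_option linter.style.haveILetI false
set_option linter.unusedSectionVars false
set_option backward.isDefEq.respectTransparency false
set_option backward.isDefEq.respectTransparency.types false
universe u

open CategoryTheory CategoryTheory.Limits AlgebraicGeometry TopologicalSpace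

namespace CurveResLib

theorem isEffCartier_of_regular_at {W : Scheme.{u}} [IsIntegral W] [IsLocallyNoetherian W]
    (hd : topologicalKrullDim W ≤ 1) (D : W.IdealSheafData) (hD : genericPoint W ∉ (D.support : Set W))
    (hreg : ∀ w ∈ (D.support : Set W), IsRegularLocalRing (W.presheaf.stalk w)) :
    BlowUp.IsEffCartierIdeal D := by
  refine EffCartLib.isEffCartier_of_stalk D fun w hw U hwU => ?_
  haveI := hreg w hw
  haveI : IsDomain (W.presheaf.stalk w) := CommAlgDim.isDomain_of_isRegularLocalRing _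
  have hP : IsPrincipalIdealRing (W.presheaf.stalk w) := by
    by_cases hf : IsField (W.presheaf.stalk w)
    · letI := hf.toField
      infer_instance
    · haveI : IsDiscreteValuationRing (W.presheaf.stalk w) :=
        WeilExtLib.isDiscreteValuationRing_of_regular _ ((DimIneqLib.stalk_dim_le_dim w).trans hd) hf
      infer_instance
  obtain ⟨g, hg⟩ := (hP.principal ((D.ideal U).map (W.presheaf.germ U w hwU).hom)).principal
  refine ⟨g, mem_nonZeroDivisors_iff_ne_zero.2 fun h0 => ?_, hg⟩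
  subst h0
  refine hD ?_
  rw [Ideal.submodule_span_eq, Ideal.span_singleton_eq_bot.2 rfl] at hg
  have hinj : Function.Injective (W.presheaf.germ U w hwU).hom := germ_injective_of_isIntegral W w hwU
  have hbot : D.ideal U = ⊥ := by
    rw [eq_bot_iff]
    intro a ha
    refine Ideal.mem_bot.2 ?_
    apply hinj
    rw [map_zero]
    exact Ideal.mem_bot.1 (hg ▸ Ideal.mem_map_of_mem (W.presheaf.germ U w hwU).hom ha)
  have hη : genericPoint W ∈ (U : W.Opens) :=
    ((genericPoint_spec W).mem_open_set_iff U.1.2).2 ⟨w, trivial, hwU⟩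
  refine ((Scheme.IdealSheafData.coe_support_inter D U).symm ▸ ⟨?_, hη⟩ :
    genericPoint W ∈ (D.support : Set W) ∩ (U.1 : Set W)).1
  rw [hbot]
  simp

theorem isBlowUp_id {Y : Scheme.{u}} {K : Y.IdealSheafData} (hK : BlowUp.IsEffCartierIdeal K) :
    BlowUp.IsBlowUp (𝟙 Y) K :=
  ⟨by rwa [Scheme.IdealSheafData.comap_id],
    fun Z g _ => ⟨g, Category.comp_id g, fun m hm => (Category.comp_id m).symm.trans hm⟩⟩

theorem generic_not_closed {Y Z : Scheme.{u}} [IsIntegral Y] [IsIntegral Z] (π : Z ⟶ Y) [IsFinite π] (V : Y.Opens)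
    (hV : (V : Set Y).Nonempty) [IsIso (π ∣_ V)] (hd : topologicalKrullDim Y = 1)
    (h : IsClosed ({genericPoint Z} : Set Z)) : False := by
  have hall : ∀ w : Z, w = genericPoint Z := fun w =>
    Set.mem_singleton_iff.1 ((genericPoint_specializes w).mem_closed h rfl)
  have hsing : ∀ y : Y, y = genericPoint Y := by
    intro y
    obtain ⟨w, rfl⟩ : y ∈ Set.range π := (genericPoint_specializes y).mem_closed π.isClosedMap.isClosed_range
      ⟨_, ModifLib.map_genericPoint π hV⟩
    rw [hall w, ModifLib.map_genericPoint π hV]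
  haveI : Subsingleton Y := ⟨fun a b => (hsing a).trans (hsing b).symm⟩
  haveI : DiscreteTopology Y := Subsingleton.discreteTopology
  have h0 : topologicalKrullDim Y ≤ 0 := topologicalKrullDim_zero_of_discreteTopology _
  rw [hd] at h0
  exact absurd h0 (by norm_num)

theorem finite_support_of_not_generic {Z : Scheme.{u}} [IsIntegral Z] [IsNoetherian Z]
    (hd : topologicalKrullDim Z ≤ 1) (D : Z.IdealSheafData) (hD : genericPoint Z ∉ (D.support : Set Z)) :
    (D.support : Set Z).Finite ∧ ∀ z ∈ (D.support : Set Z), IsClosed ({z} : Set Z) :=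
  have h : ∀ z ∈ (D.support : Set Z), IsClosed ({z} : Set Z) := fun z hz =>
    isClosed_point_of_dim_le_one hd z fun e => hD (e ▸ hz)
  ⟨PtBlowLib.finite_of_closedPoints D.support.isClosed h, h⟩

/-- In an integral scheme a product with an invertible ideal vanishes only if the other factor does. -/
theorem eq_bot_of_mul_effCartier {W : Scheme.{u}} [IsIntegral W] {M C : W.IdealSheafData}
    (hC : BlowUp.IsEffCartierIdeal C) (h : M * C = ⊥) : M = ⊥ := by
  choose V hV t ht hVt using hC
  refine le_bot_iff.1 (Scheme.IdealSheafData.le_of_iSup_eq_top (fun w : W => V w)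
    (top_le_iff.1 fun w _ => Opens.mem_iSup.2 ⟨w, hV w⟩) fun w => ?_)
  haveI : Nonempty (V w).1 := ⟨⟨w, hV w⟩⟩
  have h1 : M.ideal (V w) * C.ideal (V w) = ⊥ := by
    rw [← Pi.mul_apply, ← Scheme.IdealSheafData.ideal_mul, h, Scheme.IdealSheafData.ideal_bot, Pi.bot_apply]
  rw [Scheme.IdealSheafData.ideal_bot, Pi.bot_apply]
  intro a ha
  have h2 : a * t w ∈ (⊥ : Ideal Γ(W, (V w).1)) := h1 ▸ Ideal.mul_mem_mul ha (hVt w ▸ Ideal.mem_span_singleton_self _)
  exact Ideal.mem_bot.2 (mem_nonZeroDivisors_iff_right.1 (ht w) _ (Ideal.mem_bot.1 h2))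

/-- The ideal of a curve pulls back into the exceptional divisor times the ideal of its strict transform. -/
theorem exists_split_curve {X X₁ Z : Scheme.{u}} [IsLocallyNoetherian X₁] [IsIntegral Z] (b : X₁ ⟶ X)
    (K : X.IdealSheafData) (hK : BlowUp.IsEffCartierIdeal (K.comap b)) (d : Z ⟶ X) (hd : d.ker ≤ K)
    (d₁ : Z ⟶ X₁) (hd₁ : d₁ ≫ b = d) (hKd : BlowUp.IsEffCartierIdeal (K.comap d)) :
    ∃ M : X₁.IdealSheafData, M ≤ d₁.ker ∧ d.ker.comap b = M * K.comap b := by
  have h1 : d.ker.comap b ≤ d₁.ker := by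
    rw [← Scheme.IdealSheafData.le_map_iff_comap_le, Scheme.IdealSheafData.map_ker, hd₁]
  obtain ⟨M, hM⟩ := PtBlowLib.exists_mul_eq hK (Scheme.IdealSheafData.comap_mono b hd)
  refine ⟨M, ?_, hM⟩
  have h2 : (d.ker.comap b).comap d₁ = ⊥ := le_bot_iff.1 (by
    rw [← Scheme.IdealSheafData.le_map_iff_comap_le, Scheme.IdealSheafData.map_bot]
    exact h1)
  rw [show d.ker.comap b = M * K.comap b from hM, BlowUpLib.comap_mul, ← Scheme.IdealSheafData.comap_comp, hd₁] at h2
  have h3 := eq_bot_of_mul_effCartier hKd h2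
  rw [← Scheme.IdealSheafData.map_bot, Scheme.IdealSheafData.le_map_iff_comap_le, h3]

theorem stalkIdeal_ne_bot {Z : Scheme.{u}} [IsIntegral Z] (D : Z.IdealSheafData)
    (hD : genericPoint Z ∉ (D.support : Set Z)) (p : Z) : IntMult.stalkIdeal D p ≠ ⊥ := fun h => hD <| by
  obtain ⟨U, hU, hpU, -⟩ := exists_isAffineOpen_mem_and_subset (x := p) (U := ⊤) trivial
  rw [SDivLib.stalkIdeal_eq D ⟨U, hU⟩ hpU] at h
  have hbot : D.ideal ⟨U, hU⟩ = ⊥ := by
    rw [eq_bot_iff]
    intro a ha
    refine Ideal.mem_bot.2 ?_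
    apply germ_injective_of_isIntegral Z p hpU
    rw [map_zero]
    exact Ideal.mem_bot.1 (h ▸ Ideal.mem_map_of_mem (Z.presheaf.germ U p hpU).hom ha)
  have hη : genericPoint Z ∈ U := ((genericPoint_spec Z).mem_open_set_iff U.2).2 ⟨p, trivial, hpU⟩
  refine ((Scheme.IdealSheafData.coe_support_inter D ⟨U, hU⟩).symm ▸ ⟨?_, hη⟩ :
    genericPoint Z ∈ (D.support : Set Z) ∩ (U : Set Z)).1
  show genericPoint Z ∈ Z.zeroLocus (U := U) (D.ideal ⟨U, hU⟩ : Set Γ(Z, U))
  rw [hbot]
  simp

open Classical in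
/-- Strict monotonicity of the total colength. -/
theorem sum_colen_le {Z : Scheme.{u}} [IsIntegral Z] [IsNoetherian Z] {D D' K : Z.IdealSheafData}
    (h : D ≤ D' * K) (hgen : genericPoint Z ∉ (D.support : Set Z)) (hf : (D.support : Set Z).Finite) (hf' : (D'.support : Set Z).Finite)
    (hiso : ∀ z ∈ (D.support : Set Z), IsClosed ({z} : Set Z)) :
    ∑ z ∈ hf'.toFinset, PtBlowLib.colen D' z ≤ ∑ z ∈ hf.toFinset, PtBlowLib.colen D z ∧
      ∀ p ∈ (K.support : Set Z),
        ∑ z ∈ hf'.toFinset, PtBlowLib.colen D' z < ∑ z ∈ hf.toFinset, PtBlowLib.colen D z := by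
  have hle : D ≤ D' := h.trans fun U => by
    rw [Scheme.IdealSheafData.ideal_mul, Pi.mul_apply]
    exact Ideal.mul_le_left
  have hsub : hf'.toFinset ⊆ hf.toFinset := fun z hz =>
    hf.mem_toFinset.2 (Scheme.IdealSheafData.support_antitone hle (hf'.mem_toFinset.1 hz))
  have hext : ∑ z ∈ hf'.toFinset, PtBlowLib.colen D' z = ∑ z ∈ hf.toFinset, PtBlowLib.colen D' z := by
    refine Finset.sum_subset hsub fun z _ hz => ?_
    rw [PtBlowLib.colen, Module.length_eq_zero_iff, Ideal.Quotient.subsingleton_iff]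
    exact of_not_not fun hc => hz (hf'.mem_toFinset.2 ((SDivLib.mem_support_iff_stalk D' z).2 hc))
  have hst : ∀ z, IntMult.stalkIdeal D z ≤ IntMult.stalkIdeal D' z * IntMult.stalkIdeal K z := fun z => by
    rw [← SDivLib.stalkIdeal_mul]
    obtain ⟨U, hU, hzU, -⟩ := exists_isAffineOpen_mem_and_subset (x := z) (U := ⊤) trivial
    rw [SDivLib.stalkIdeal_eq D ⟨U, hU⟩ hzU, SDivLib.stalkIdeal_eq (D' * K) ⟨U, hU⟩ hzU]
    exact Ideal.map_mono (h _)
  have hpt : ∀ z ∈ hf.toFinset, PtBlowLib.colen D' z ≤ PtBlowLib.colen D z := fun z _ => by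
    rw [PtBlowLib.colen, PtBlowLib.colen, ← PtBlowLib.length_quot, ← PtBlowLib.length_quot]
    exact Module.length_le_of_surjective (Submodule.factor ((hst z).trans Ideal.mul_le_left))
      (Submodule.factor_surjective _)
  have hne : ∀ z ∈ (D.support : Set Z), PtBlowLib.colen D z ≠ ⊤ := fun z hz =>
    PtBlowLib.colen_ne_top D z fun y hy hyz => (Set.mem_singleton_iff.1 (hyz.mem_closed (hiso y hy) rfl)).symm
  refine ⟨hext.trans_le (Finset.sum_le_sum hpt), fun p hp => ?_⟩
  have hpK : IntMult.stalkIdeal K p ≠ ⊤ := (SDivLib.mem_support_iff_stalk K p).1 hp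
  have hDp : IntMult.stalkIdeal D p ≠ ⊤ := fun e => hpK (top_le_iff.1 (e ▸ (hst p).trans Ideal.mul_le_right))
  have hpD : p ∈ (D.support : Set Z) := (SDivLib.mem_support_iff_stalk D p).2 hDp
  have hlt : IntMult.stalkIdeal D p < IntMult.stalkIdeal D' p := by
    refine lt_of_le_of_ne ((hst p).trans Ideal.mul_le_left) fun e => hne p hpD ?_
    have h0 : IntMult.stalkIdeal D p ≤ IntMult.stalkIdeal D p * IsLocalRing.maximalIdeal _ :=
      ((e ▸ hst p : IntMult.stalkIdeal D p ≤ IntMult.stalkIdeal D p * IntMult.stalkIdeal K p)).trans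
        (Ideal.mul_mono le_rfl (IsLocalRing.le_maximalIdeal hpK))
    have hbot : IntMult.stalkIdeal D p = ⊥ :=
      Submodule.eq_bot_of_le_smul_of_le_jacobson_bot (IsLocalRing.maximalIdeal _) _ (IsNoetherian.noetherian _)
        (by rwa [Ideal.smul_eq_mul, mul_comm]) (IsLocalRing.maximalIdeal_le_jacobson _)
    exact absurd hbot (stalkIdeal_ne_bot D hgen p)
  rw [hext, ← Finset.add_sum_erase hf.toFinset _ (hf.mem_toFinset.2 hpD),
    ← Finset.add_sum_erase hf.toFinset (PtBlowLib.colen D) (hf.mem_toFinset.2 hpD)]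
  refine lt_of_le_of_lt (add_le_add le_rfl (Finset.sum_le_sum fun z hz => hpt z (Finset.mem_of_mem_erase hz))) ?_
  refine (ENat.add_lt_add_iff_right (WithTop.sum_ne_top.2 fun z hz =>
    hne z (hf.mem_toFinset.1 (Finset.mem_of_mem_erase hz)))).2 ?_
  rw [PtBlowLib.colen, PtBlowLib.colen, ← PtBlowLib.length_quot, ← PtBlowLib.length_quot, Module.length_quotient,
    Module.length_quotient]
  exact Order.coheight_strictAnti hlt (by
    have := hne p hpD
    rw [PtBlowLib.colen, ← PtBlowLib.length_quot, Module.length_quotient] at this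
    exact (Order.coheight_anti hlt.le).trans_lt this.lt_top)

end CurveResLib
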