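import Mathlib
import Groth.Agent.CurveResLib.Strict
import Groth.Agent.NormBlowLib.FinNorm
import Groth.Agent.S2351
import Groth.Agent.S9800

/-! Finitely many curves in an ambient scheme. -/

set_option autoImplicit false
set_option linter.style.haveILetI false
set_option linter.unusedSectionVars false
set_option backward.isDefEq.respectTransparency false
set_option backward.isDefEq.respectTransparency.types false
universe u

open CategoryTheory CategoryTheory.Limits AlgebraicGeometry TopologicalSpace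

namespace CurveResLib

/-- Curves moved to a point blow-up of the ambient scheme. -/
structure Fam {X : Scheme.{u}} {n : ℕ} {Y : Fin n → Scheme.{u}} (ι : ∀ i, Y i ⟶ X) (W : Fin n → Scheme.{u})
    (ν : ∀ i, W i ⟶ Y i) (V : ∀ i, (Y i).Opens) {X' : Scheme.{u}} (g : X' ⟶ X) where
  seq : Resolve.IsPtBlowupSeq g
  noeth : IsNoetherian X'
  Z : Fin n → Scheme.{u}
  π : ∀ i, Z i ⟶ Y i
  st : ∀ i, St (ν i) (V i) (π i)
  c : ∀ i, Z i ⟶ X'
  closed : ∀ i, IsClosedImmersion (c i)
  fac : ∀ i, c i ≫ g = π i ≫ ι i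

variable {X : Scheme.{u}} {n : ℕ} {Y : Fin n → Scheme.{u}} (ι : ∀ i, Y i ⟶ X) {W : Fin n → Scheme.{u}}
  (ν : ∀ i, W i ⟶ Y i) (V : ∀ i, (Y i).Opens) [∀ i, IsIntegral (Y i)] [∀ i, IsNoetherian (Y i)]
  [∀ i, IsIntegral (W i)] [∀ i, IsFinite (ν i)] [∀ i, IsIso (ν i ∣_ V i)]
  (hV : ∀ i, (V i : Set (Y i)).Nonempty) (hd : ∀ i, topologicalKrullDim (Y i) = 1)
  (hreg : ∀ i (w : W i), IsRegularLocalRing ((W i).presheaf.stalk w))

include hV hd hreg in
/-- Blow up the ambient scheme at a closed point. -/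
theorem Fam.blow {X' : Scheme.{u}} {g : X' ⟶ X} (F : Fam ι W ν V g) (x : X') (hx : IsClosed ({x} : Set X')) :
    ∃ (X₁ : Scheme.{u}) (b : X₁ ⟶ X') (_ : BlowUp.IsBlowUp b (Scheme.IdealSheafData.vanishingIdeal ⟨{x}, hx⟩))
      (G : Fam ι W ν V (b ≫ g)) (β : ∀ i, G.Z i ⟶ F.Z i) (_ : ∀ i, β i ≫ F.π i = G.π i)
      (_ : ∀ i, G.c i ≫ b = β i ≫ F.c i) (_ : ∀ i, (G.st i).lift ≫ β i = (F.st i).lift),
      (∀ i, IsFinite (β i)) ∧ ∀ i (p : F.Z i), F.c i p = x → ¬ IsRegularLocalRing ((F.Z i).presheaf.stalk p) →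
        ¬ IsIso (β i) := by
  haveI := F.noeth
  obtain ⟨X₁, b, hb⟩ := Groth.Agent.S8859.result X' (Scheme.IdealSheafData.vanishingIdeal ⟨{x}, hx⟩)
  have key : ∀ i, ∃ (Z₁ : Scheme.{u}) (β : Z₁ ⟶ F.Z i)
      (_ : BlowUp.IsBlowUp β ((Scheme.IdealSheafData.vanishingIdeal (⟨{x}, hx⟩ : Closeds X')).comap (F.c i)))
      (s₁ : St (ν i) (V i) (β ≫ F.π i)), s₁.lift ≫ β = (F.st i).lift ∧ IsFinite β ∧
      ∀ p : F.Z i, F.c i p = x → ¬ IsRegularLocalRing ((F.Z i).presheaf.stalk p) → ¬ IsIso β := by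
    intro i
    haveI := (F.st i).integral; haveI := (F.st i).finite; haveI := (F.st i).iso; haveI := F.closed i
    haveI := (F.st i).noetherian
    let D := (Scheme.IdealSheafData.vanishingIdeal (⟨{x}, hx⟩ : Closeds X')).comap (F.c i)
    have hDs : ∀ z, z ∈ (D.support : Set (F.Z i)) ↔ F.c i z = x := fun z => by
      rw [Scheme.IdealSheafData.support_comap]
      show F.c i z ∈ ((Scheme.IdealSheafData.vanishingIdeal (⟨{x}, hx⟩ : Closeds X')).support : Set X') ↔ _
      rw [Scheme.IdealSheafData.coe_support_vanishingIdeal]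
      exact Set.mem_singleton_iff
    have hdZ := (F.st i).dim_le (ν i) (V i) (hV i) (hd i).le
    have hgen : genericPoint (F.Z i) ∉ (D.support : Set (F.Z i)) := fun h => by
      refine generic_not_closed (F.π i) (V i) (hV i) (hd i) ?_
      have : ({genericPoint (F.Z i)} : Set (F.Z i)) = F.c i ⁻¹' {x} := by
        rw [← (hDs _).1 h, ← Set.image_singleton, (F.c i).isClosedEmbedding.injective.preimage_image]
      rw [this]
      exact hx.preimage (F.c i).continuous
    by_cases hp : ∃ p, F.c i p = x ∧ ¬ IsRegularLocalRing ((F.Z i).presheaf.stalk p)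
    · obtain ⟨p, hpx, hns⟩ := hp
      subst hpx
      obtain ⟨hpc, Z₁, β, hβ, s₁, hl, hf, hni⟩ := (F.st i).step (ν i) (V i) (hV i) (hd i).le (hreg i) p hns
      exact ⟨Z₁, β, (comap_point (F.c i) p hpc hx).symm ▸ hβ, s₁, hl, hf, fun _ _ _ => hni⟩
    · push Not at hp
      refine ⟨F.Z i, 𝟙 _, isBlowUp_id (isEffCartier_of_regular_at hdZ D hgen fun z hz => hp z ((hDs z).1 hz)),
        ⟨(F.st i).lift, by rw [Category.id_comp, (F.st i).fac], (F.st i).integral,
          by rw [Category.id_comp]; exact (F.st i).finite, by rw [Category.id_comp]; exact (F.st i).iso⟩,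
        Category.comp_id _, inferInstance, fun p h1 h2 => absurd (hp p h1) h2⟩
  choose Z₁ β hβ s₁ hl hf hni using key
  have hlift : ∀ i, ∃ c₁ : Z₁ i ⟶ X₁, c₁ ≫ b = β i ≫ F.c i ∧ IsClosedImmersion c₁ := fun i => by
    haveI := F.closed i
    obtain ⟨c₁, hc₁, -⟩ := hb.2 (Z₁ i) (β i ≫ F.c i) (by rw [Scheme.IdealSheafData.comap_comp]; exact (hβ i).1)
    exact ⟨c₁, hc₁, BlowUpLib.isClosedImmersion_map hb (F.c i) (hβ i) c₁ hc₁⟩
  choose c₁ hc₁ hcl using hlift
  exact ⟨X₁, b, hb, ⟨Resolve.IsPtBlowupSeq.step b g x hx hb F.seq, PtBlowLib.isNoetherian_b hx b hb, Z₁,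
    fun i => β i ≫ F.π i, s₁, c₁, hcl, fun i => by rw [← Category.assoc, hc₁ i, Category.assoc, F.fac, Category.assoc]⟩,
    β, fun _ => rfl, hc₁, hl, hf, hni⟩

open Classical in
/-- The total intersection colength. -/
noncomputable def interSum {X' : Scheme.{u}} {Z : Fin n → Scheme.{u}} (c : ∀ i, Z i ⟶ X')
    (hf : ∀ i j, i ≠ j → (((c j).ker.comap (c i)).support : Set (Z i)).Finite) : ℕ∞ :=
  ∑ q : Fin n × Fin n, if h : q.1 ≠ q.2 then
    ∑ z ∈ (hf q.1 q.2 h).toFinset, PtBlowLib.colen ((c q.2).ker.comap (c q.1)) z else 0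

include hV hd hreg in
/-- **Finitely many curves become regular and disjoint.** -/
theorem exists_disjoint (hdist : ∀ i j, i ≠ j → ι i (genericPoint (Y i)) ≠ ι j (genericPoint (Y j)))
    (F₀ : Fam ι W ν V (𝟙 X)) :
    ∃ (X' : Scheme.{u}) (g : X' ⟶ X) (F : Fam ι W ν V g),
      (∀ i (z : F.Z i), IsRegularLocalRing ((F.Z i).presheaf.stalk z)) ∧
      ∀ i j, i ≠ j → Disjoint (Set.range (F.c i)) (Set.range (F.c j)) := by
  classical
  -- regularity
  have h1 : ∃ (X' : Scheme.{u}) (g : X' ⟶ X) (F : Fam ι W ν V g),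
      ∀ i (z : F.Z i), IsRegularLocalRing ((F.Z i).presheaf.stalk z) := by
    have hcov : ∀ i, ∃ S : Finset (Y i).affineOpens, ∀ y : Y i, ∃ U ∈ S, y ∈ (U : (Y i).Opens) := fun i => by
      obtain ⟨S, hS⟩ := (isCompact_univ : IsCompact (Set.univ : Set (Y i))).elim_finite_subcover
        (fun U : (Y i).affineOpens => (U.1 : Set (Y i))) (fun U => U.1.2)
        (fun y _ => Set.mem_iUnion.2 (by
          obtain ⟨U, hU, hy, -⟩ := exists_isAffineOpen_mem_and_subset (x := y) (U := ⊤) trivial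
          exact ⟨⟨U, hU⟩, hy⟩))
      exact ⟨S, fun y => by obtain ⟨U, hU, hy⟩ := Set.mem_iUnion₂.1 (hS (Set.mem_univ y)); exact ⟨U, hU, hy⟩⟩
    choose S hS using hcov
    let α : (Σ i, {U // U ∈ S i}) → Type u := fun q => Sub (ν q.1) q.2.1.1
    haveI : ∀ q, WellFoundedGT (α q) := fun q => wf_sub (ν q.1) q.2.1
    haveI hwf : WellFoundedGT (∀ q, α q) := ⟨(Pi.wellFoundedLT (α := fun q => (α q)ᵒᵈ)).wf⟩
    suffices h : ∀ (m : ∀ q, α q) (X' : Scheme.{u}) (g : X' ⟶ X) (F : Fam ι W ν V g),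
        (fun q => (meas (ν q.1) (V q.1) (F.st q.1) q.2.1.1 : α q)) = m →
        ∃ (X' : Scheme.{u}) (g : X' ⟶ X) (F : Fam ι W ν V g),
          ∀ i (z : F.Z i), IsRegularLocalRing ((F.Z i).presheaf.stalk z) from h _ X (𝟙 X) F₀ rfl
    intro m
    induction m using WellFoundedGT.induction with
    | _ m ih =>
      intro X' g F hm
      by_cases hr : ∀ i (z : F.Z i), IsRegularLocalRing ((F.Z i).presheaf.stalk z)
      · exact ⟨X', g, F, hr⟩
      push Not at hr
      obtain ⟨i₀, p, hns⟩ := hr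
      haveI := F.closed i₀; haveI := (F.st i₀).integral; haveI := (F.st i₀).finite; haveI := (F.st i₀).iso
      obtain ⟨hp, -⟩ := (F.st i₀).step (ν i₀) (V i₀) (hV i₀) (hd i₀).le (hreg i₀) p hns
      have hx : IsClosed ({F.c i₀ p} : Set X') := by
        rw [← Set.image_singleton]
        exact (F.c i₀).isClosedEmbedding.isClosedMap _ hp
      obtain ⟨X₁, b, hb, G, β, hπ, hc, hl, hf, hni⟩ := F.blow ι ν V hV hd hreg _ hx
      refine ih _ ?_ X₁ _ G rfl
      subst hm
      have hle : ∀ i (U : (Y i).Opens), meas (ν i) (V i) (F.st i) U ≤ meas (ν i) (V i) (G.st i) U := by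
        intro i U
        rintro _ ⟨a, rfl⟩
        have e : (G.π i) ⁻¹ᵁ U ≤ β i ⁻¹ᵁ F.π i ⁻¹ᵁ U := by rw [← Scheme.Hom.comp_preimage, hπ]
        refine ⟨((β i).appLE _ _ e).hom a, ?_⟩
        have h' : (β i).appLE _ _ e ≫ (G.st i).lift.appLE ((G.π i) ⁻¹ᵁ U) (ν i ⁻¹ᵁ U) (le_of_fac (ν i) (V i) (G.st i) U) =
            (F.st i).lift.appLE (F.π i ⁻¹ᵁ U) (ν i ⁻¹ᵁ U) (le_of_fac (ν i) (V i) (F.st i) U) := by
          simp only [Scheme.Hom.appLE_comp_appLE, hl]
        exact congrArg (fun φ => φ.hom a) h'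
      refine lt_of_le_of_ne (fun q => hle _ _) fun heq => ?_
      haveI := hf i₀
      have hs : ∃ s' : St (ν i₀) (V i₀) (β i₀ ≫ F.π i₀), s'.lift ≫ β i₀ = (F.st i₀).lift ∧
          ∀ U, meas (ν i₀) (V i₀) s' U = meas (ν i₀) (V i₀) (G.st i₀) U := by
        have h2 : ∀ (ρ : G.Z i₀ ⟶ Y i₀) (s : St (ν i₀) (V i₀) ρ), ρ = β i₀ ≫ F.π i₀ →
            ∃ s' : St (ν i₀) (V i₀) (β i₀ ≫ F.π i₀), s'.lift = s.lift ∧
              ∀ U, meas (ν i₀) (V i₀) s' U = meas (ν i₀) (V i₀) s U := by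
          rintro ρ s rfl
          exact ⟨s, rfl, fun U => rfl⟩
        obtain ⟨s', h3, h4⟩ := h2 _ (G.st i₀) (hπ i₀).symm
        exact ⟨s', by rw [h3, hl], h4⟩
      obtain ⟨s', hs', hmeq⟩ := hs
      have hlt := meas_lt (ν i₀) (V i₀) (F.st i₀) (β i₀) s' (hV i₀) hs' (hni i₀ p rfl hns)
        (fun U : {U // U ∈ S i₀} => U.1) (top_le_iff.1 fun y _ => by
          obtain ⟨U, hU, hy⟩ := hS i₀ y
          exact Opens.mem_iSup.2 ⟨⟨U, hU⟩, hy⟩)
      refine hlt.ne (funext fun U => ?_)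
      rw [hmeq]
      exact congrFun heq ⟨i₀, U⟩
  obtain ⟨X₀, g₀, F, hR⟩ := h1
  -- disjointness
  have hZd : ∀ i, topologicalKrullDim (F.Z i) ≤ 1 := fun i => (F.st i).dim_le (ν i) (V i) (hV i) (hd i).le
  haveI := fun i => (F.st i).integral
  haveI := fun i => (F.st i).noetherian
  haveI := fun i => (F.st i).finite
  haveI := fun i => (F.st i).iso
  have hgp : ∀ i, F.π i (genericPoint (F.Z i)) = genericPoint (Y i) := fun i => ModifLib.map_genericPoint (F.π i) (hV i)
  have hfin : ∀ {X' : Scheme.{u}} (g : X' ⟶ X) (c : ∀ i, F.Z i ⟶ X'), (∀ i, IsClosedImmersion (c i)) →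
      (∀ i, c i ≫ g = F.π i ≫ ι i) → ∀ i j, i ≠ j → genericPoint (F.Z i) ∉ (((c j).ker.comap (c i)).support : Set (F.Z i)) := by
    intro X' g c hc hfac i j hij h
    haveI := hc i; haveI := hc j
    rw [Scheme.IdealSheafData.support_comap] at h
    have h' : c i (genericPoint (F.Z i)) ∈ Set.range (c j) := by
      have := h
      rw [TopologicalSpace.Closeds.coe_preimage, Set.mem_preimage, Scheme.Hom.support_ker,
        (c j).isClosedEmbedding.isClosed_range.closure_eq] at this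
      exact this
    obtain ⟨z, hz⟩ := h'
    have hy : ι j (F.π j z) = ι i (genericPoint (Y i)) := by
      rw [← Scheme.Hom.comp_apply, ← hfac, Scheme.Hom.comp_apply, hz, ← Scheme.Hom.comp_apply, hfac,
        Scheme.Hom.comp_apply, hgp]
    by_cases hzη : z = genericPoint (F.Z j)
    · subst hzη
      exact hdist i j hij (by rw [← hy, hgp])
    · have hzc := isClosed_point_of_dim_le_one (hZd j) z hzη
      refine generic_not_closed (F.π i) (V i) (hV i) (hd i) ?_
      have : ({genericPoint (F.Z i)} : Set (F.Z i)) = c i ⁻¹' (c j '' {z}) := by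
        rw [Set.image_singleton, hz, ← Set.image_singleton, (c i).isClosedEmbedding.injective.preimage_image]
      rw [this]
      exact ((c j).isClosedEmbedding.isClosedMap _ hzc).preimage (c i).continuous
  suffices h : ∀ (m : ℕ) (X' : Scheme.{u}) (g : X' ⟶ X) (c : ∀ i, F.Z i ⟶ X') (_ : Resolve.IsPtBlowupSeq g)
      (_ : IsNoetherian X') (hc : ∀ i, IsClosedImmersion (c i)) (hfac : ∀ i, c i ≫ g = F.π i ≫ ι i)
      (hf : ∀ i j, i ≠ j → (((c j).ker.comap (c i)).support : Set (F.Z i)).Finite),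
      interSum c hf ≤ (m : ℕ∞) → ∃ (X' : Scheme.{u}) (g : X' ⟶ X) (c : ∀ i, F.Z i ⟶ X'),
        Resolve.IsPtBlowupSeq g ∧ IsNoetherian X' ∧ (∀ i, IsClosedImmersion (c i)) ∧ (∀ i, c i ≫ g = F.π i ≫ ι i) ∧
          ∀ i j, i ≠ j → Disjoint (Set.range (c i)) (Set.range (c j)) by
    have hf0 : ∀ i j, i ≠ j → (((F.c j).ker.comap (F.c i)).support : Set (F.Z i)).Finite := fun i j hij =>
      (finite_support_of_not_generic (hZd i) _ (hfin g₀ F.c F.closed F.fac i j hij)).1
    have hne : interSum F.c hf0 ≠ ⊤ := WithTop.sum_ne_top.2 fun q _ => by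
      by_cases hq : q.1 ≠ q.2
      · rw [dif_pos hq]
        refine WithTop.sum_ne_top.2 fun z hz => PtBlowLib.colen_ne_top _ z fun y hy hyz => ?_
        have hyc := (finite_support_of_not_generic (hZd q.1) _ (hfin g₀ F.c F.closed F.fac q.1 q.2 hq)).2 y hy
        exact (Set.mem_singleton_iff.1 (hyz.mem_closed hyc rfl)).symm
      · rw [dif_neg hq]
        exact ENat.coe_ne_top 0
    obtain ⟨N, hN⟩ := ENat.ne_top_iff_exists.1 hne
    obtain ⟨X', g, c, hs, hn, hc, hfac, hdisj⟩ := h N X₀ g₀ F.c F.seq F.noeth F.closed F.fac hf0 hN.symm.le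
    exact ⟨X', g, ⟨hs, hn, F.Z, F.π, F.st, c, hc, hfac⟩, hR, hdisj⟩
  intro m
  induction m using Nat.strong_induction_on with
  | _ m ih =>
    intro X' g c hs hn hc hfac hf hm
    by_cases hdj : ∀ i j, i ≠ j → Disjoint (Set.range (c i)) (Set.range (c j))
    · exact ⟨X', g, c, hs, hn, hc, hfac, hdj⟩
    push Not at hdj
    obtain ⟨i₀, j₀, hij, hnd⟩ := hdj
    obtain ⟨x, hxi, hxj⟩ := Set.not_disjoint_iff.1 hnd
    obtain ⟨p, rfl⟩ := hxi
    haveI := hn
    haveI := hc
    have hD0 : p ∈ (((c j₀).ker.comap (c i₀)).support : Set (F.Z i₀)) := by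
      rw [Scheme.IdealSheafData.support_comap, TopologicalSpace.Closeds.coe_preimage, Set.mem_preimage,
        Scheme.Hom.support_ker]
      exact subset_closure hxj
    have hp : IsClosed ({p} : Set (F.Z i₀)) :=
      (finite_support_of_not_generic (hZd i₀) _ (hfin g c hc hfac i₀ j₀ hij)).2 p hD0
    have hx : IsClosed ({c i₀ p} : Set X') := by
      rw [← Set.image_singleton]
      exact (c i₀).isClosedEmbedding.isClosedMap _ hp
    obtain ⟨X₁, b, hb⟩ := Groth.Agent.S8859.result X' (Scheme.IdealSheafData.vanishingIdeal ⟨{c i₀ p}, hx⟩)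
    let K := Scheme.IdealSheafData.vanishingIdeal (⟨{c i₀ p}, hx⟩ : Closeds X')
    have hKs : ∀ i (z : F.Z i), z ∈ ((K.comap (c i)).support : Set (F.Z i)) ↔ c i z = c i₀ p := fun i z => by
      rw [Scheme.IdealSheafData.support_comap]
      show c i z ∈ (K.support : Set X') ↔ _
      rw [Scheme.IdealSheafData.coe_support_vanishingIdeal]
      exact Set.mem_singleton_iff
    have hKE : ∀ i, BlowUp.IsEffCartierIdeal (K.comap (c i)) := fun i =>
      isEffCartier_of_regular_at (hZd i) _ (fun h => by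
        refine generic_not_closed (F.π i) (V i) (hV i) (hd i) ?_
        have : ({genericPoint (F.Z i)} : Set (F.Z i)) = c i ⁻¹' {c i₀ p} := by
          rw [← (hKs i _).1 h, ← Set.image_singleton, (c i).isClosedEmbedding.injective.preimage_image]
        rw [this]
        exact hx.preimage (c i).continuous) fun z _ => hR i z
    have hlift : ∀ i, ∃ c₁ : F.Z i ⟶ X₁, c₁ ≫ b = c i ∧ IsClosedImmersion c₁ := fun i => by
      obtain ⟨c₁, hc₁, -⟩ := hb.2 (F.Z i) (c i) (hKE i)
      exact ⟨c₁, hc₁, BlowUpLib.isClosedImmersion_map hb (c i) (isBlowUp_id (hKE i)) c₁ (by rw [hc₁, Category.id_comp])⟩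
    choose c₁ hc₁ hcl using hlift
    have hn₁ : IsNoetherian X₁ := PtBlowLib.isNoetherian_b hx b hb
    haveI := hn₁
    have hfac₁ : ∀ i, c₁ i ≫ b ≫ g = F.π i ≫ ι i := fun i => by rw [← Category.assoc, hc₁, hfac]
    have hgen₁ := hfin (b ≫ g) c₁ hcl hfac₁
    have hf₁ : ∀ i j, i ≠ j → (((c₁ j).ker.comap (c₁ i)).support : Set (F.Z i)).Finite := fun i j hij =>
      (finite_support_of_not_generic (hZd i) _ (hgen₁ i j hij)).1
    have hterm : ∀ i j, ∀ h : i ≠ j,
        ∑ z ∈ (hf₁ i j h).toFinset, PtBlowLib.colen ((c₁ j).ker.comap (c₁ i)) z ≤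
          ∑ z ∈ (hf i j h).toFinset, PtBlowLib.colen ((c j).ker.comap (c i)) z ∧
        (c i₀ p ∈ Set.range (c j) → c i₀ p ∈ Set.range (c i) →
          ∑ z ∈ (hf₁ i j h).toFinset, PtBlowLib.colen ((c₁ j).ker.comap (c₁ i)) z <
            ∑ z ∈ (hf i j h).toFinset, PtBlowLib.colen ((c j).ker.comap (c i)) z) := by
      intro i j h
      have hclosed := (finite_support_of_not_generic (hZd i) _ (hfin g c hc hfac i j h)).2
      by_cases hxj' : c i₀ p ∈ Set.range (c j)
      · have hdK : (c j).ker ≤ K := by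
          refine Scheme.IdealSheafData.le_support_iff_le_vanishingIdeal.1 ?_
          rw [← SetLike.coe_subset_coe]
          refine Set.singleton_subset_iff.2 ?_
          rw [Scheme.Hom.support_ker]
          exact subset_closure hxj'
        obtain ⟨M, hM, hMeq⟩ := exists_split_curve b K hb.1 (c j) hdK (c₁ j) (hc₁ j) (hKE j)
        have hle : (c j).ker.comap (c i) ≤ (c₁ j).ker.comap (c₁ i) * K.comap (c i) := by
          rw [← hc₁ i, Scheme.IdealSheafData.comap_comp, hMeq, BlowUpLib.comap_mul, ← Scheme.IdealSheafData.comap_comp]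
          intro U
          rw [Scheme.IdealSheafData.ideal_mul, Scheme.IdealSheafData.ideal_mul, Pi.mul_apply, Pi.mul_apply]
          exact Ideal.mul_mono (Scheme.IdealSheafData.comap_mono _ hM U) le_rfl
        obtain ⟨h1, h2⟩ := sum_colen_le hle (hfin g c hc hfac i j h) (hf i j h) (hf₁ i j h) hclosed
        refine ⟨h1, fun _ hxi => ?_⟩
        obtain ⟨z, hz⟩ := hxi
        exact h2 z ((hKs i z).2 hz)
      · have hle : (c j).ker.comap (c i) ≤ (c₁ j).ker.comap (c₁ i) * ⊤ := by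
          rw [← Scheme.IdealSheafData.one_eq_top, mul_one, ← hc₁ i, Scheme.IdealSheafData.comap_comp]
          refine Scheme.IdealSheafData.comap_mono _ ?_
          rw [← Scheme.IdealSheafData.le_map_iff_comap_le, Scheme.IdealSheafData.map_ker, hc₁]
        exact ⟨(sum_colen_le hle (hfin g c hc hfac i j h) (hf i j h) (hf₁ i j h) hclosed).1, fun h' => absurd h' hxj'⟩
    have hlt : interSum c₁ hf₁ < interSum c hf := by
      rw [interSum, interSum, ← Finset.add_sum_erase Finset.univ _ (Finset.mem_univ (i₀, j₀))]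
      conv_rhs => rw [← Finset.add_sum_erase Finset.univ _ (Finset.mem_univ (i₀, j₀))]
      refine lt_of_le_of_lt (add_le_add le_rfl (Finset.sum_le_sum fun q _ => ?_)) ((ENat.add_lt_add_iff_right ?_).2 ?_)
      · by_cases hq : q.1 ≠ q.2
        · rw [dif_pos hq, dif_pos hq]; exact (hterm q.1 q.2 hq).1
        · rw [dif_neg hq, dif_neg hq]
      · intro htop
        have h3 : interSum c hf = ⊤ := by
          rw [interSum, ← Finset.add_sum_erase Finset.univ _ (Finset.mem_univ (i₀, j₀)), htop, add_top]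
        rw [h3] at hm
        exact absurd hm (not_le.2 (ENat.coe_lt_top m))
      · rw [dif_pos hij, dif_pos hij]
        exact (hterm i₀ j₀ hij).2 hxj ⟨p, rfl⟩
    obtain ⟨k, hk⟩ := ENat.ne_top_iff_exists.1 (ne_top_of_lt hlt)
    refine ih k ?_ X₁ (b ≫ g) c₁ (Resolve.IsPtBlowupSeq.step b g _ hx hb hs) hn₁ hcl hfac₁ hf₁ hk.symm.le
    exact_mod_cast (hk.le.trans_lt (hlt.trans_le hm) : (k : ℕ∞) < m)

end CurveResLib
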