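import Mathlib
import Groth.Agent.CurveResLib.Main
import Groth.Agent.BlowUpLib.Cartier

/-! Sequences of point blow-ups over a curve. -/

set_option autoImplicit false
set_option linter.style.haveILetI false
set_option backward.isDefEq.respectTransparency false
set_option backward.isDefEq.respectTransparency.types false
universe u

open CategoryTheory CategoryTheory.Limits AlgebraicGeometry TopologicalSpace

namespace CurveResLib

theorem seq_props {Y' Y : Scheme.{u}} (g : Y' ⟶ Y) (h : Resolve.IsPtBlowupSeq g) :
    IsIntegral Y → IsNoetherian Y → topologicalKrullDim Y = 1 →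
      IsIntegral Y' ∧ IsProper g ∧ ∃ V : Y.Opens, (V : Set Y).Nonempty ∧ IsIso (g ∣_ V) := by
  induction h with
  | @iso Y' Y e =>
    intro hY _ _
    haveI := hY
    haveI : Nonempty Y' := ⟨e.inv (genericPoint Y)⟩
    exact ⟨isIntegral_of_isOpenImmersion e.hom, inferInstance, ⊤, ⟨genericPoint Y, trivial⟩, inferInstance⟩
  | @step Y' Z Y b r z hz hb hr ih =>
    intro hY hYn hd
    obtain ⟨hZ, hrp, V, hV, hVi⟩ := ih hY hYn hd
    haveI := hY; haveI := hYn; haveI := hZ; haveI := hrp; haveI := hVi
    haveI : IsLocallyNoetherian Z := LocallyOfFiniteType.isLocallyNoetherian r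
    let K : Z.IdealSheafData := Scheme.IdealSheafData.vanishingIdeal ⟨{z}, hz⟩
    have hKs : (K.support : Set Z) = {z} := Scheme.IdealSheafData.coe_support_vanishingIdeal _
    have hzη : z ≠ genericPoint Z := by
      intro h
      subst h
      have hall : ∀ w : Z, w = genericPoint Z := fun w =>
        Set.mem_singleton_iff.1 ((genericPoint_specializes w).mem_closed hz rfl)
      have hsing : ∀ y : Y, y = genericPoint Y := by
        intro y
        obtain ⟨w, rfl⟩ : y ∈ Set.range r := (genericPoint_specializes y).mem_closed r.isClosedMap.isClosed_range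
          ⟨_, ModifLib.map_genericPoint r hV⟩
        rw [hall w, ModifLib.map_genericPoint r hV]
      haveI : Subsingleton Y := ⟨fun a b => (hsing a).trans (hsing b).symm⟩
      haveI : DiscreteTopology Y := Subsingleton.discreteTopology
      have h0 : topologicalKrullDim Y ≤ 0 := topologicalKrullDim_zero_of_discreteTopology _
      rw [hd] at h0
      exact absurd h0 (by norm_num)
    have hK0 : K ≠ ⊥ := fun h => hzη (by
      have h1 : genericPoint Z ∈ (K.support : Set Z) := by rw [h, Scheme.IdealSheafData.support_bot]; trivial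
      exact (Set.mem_singleton_iff.1 (hKs ▸ h1)).symm)
    obtain ⟨hi, -, -⟩ := BlowUpLib.isIntegral_of_isBlowUp hb hK0
    haveI : IsProper b := BlowUpLib.isProper_of_isBlowUp hb fun U => by
      haveI := IsLocallyNoetherian.component_noetherian U
      exact IsNoetherian.noetherian _
    haveI := EffCartLib.isIso_off_center K b hb K.support.compl le_rfl
    let F : Set Y := r '' {z}
    have hF : IsClosed F := r.isClosedMap _ hz
    let V' : Y.Opens := V ⊓ ⟨Fᶜ, hF.isOpen_compl⟩
    have hV' : (V' : Set Y).Nonempty := by
      have hη : genericPoint Y ∈ V := ((genericPoint_spec Y).mem_open_set_iff V.2).2 (by simpa using hV)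
      refine ⟨genericPoint Y, hη, ?_⟩
      rintro ⟨w, hw, hwη⟩
      obtain rfl := Set.mem_singleton_iff.1 hw
      refine hzη ?_
      have h2 := ModifLib.map_genericPoint r hV
      have h4 := (r ∣_ V).isOpenEmbedding.injective
        (a₁ := ⟨w, show r _ ∈ V from hwη ▸ hη⟩) (a₂ := ⟨genericPoint Z, show r _ ∈ V from h2 ▸ hη⟩)
        (Subtype.ext ((morphismRestrict_base_coe r V _).trans ((hwη.trans h2.symm).trans
          (morphismRestrict_base_coe r V ⟨genericPoint Z, show r _ ∈ V from h2 ▸ hη⟩).symm)))
      exact congrArg Subtype.val h4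
    haveI := ModifLib.isIso_restrict_of_le r (inf_le_left : V' ≤ V)
    haveI : IsIso (b ∣_ r ⁻¹ᵁ V') := ModifLib.isIso_restrict_of_le b (U := K.support.compl) fun w (hw : r w ∈ V') hw' =>
      hw.2 ⟨w, hKs ▸ hw', rfl⟩
    exact ⟨hi, inferInstance, V', hV', by rw [morphismRestrict_comp]; infer_instance⟩

end CurveResLib
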